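import Groth.Agent.Agf.H604.BcSub
import Groth.Agent.Agf.H612.GalQuot
import Groth.Agent.Agf.H614.AlgDict
import Groth.Agent.Agf.H614.FieldGlue
import Groth.Agent.AlgGrp.K411.WordDens
import Groth.Agent.AGF.K493.Glue
import Groth.Agent.Sga3B.NormBc

/-!
# Subgroups of an affine group over a field in terms of points over an algebraic closure

`K / k` algebraic, `K` algebraically closed, `e : G ≅ Spec A` an affine group of finite type over
`k`; `gmPts K e i` is the group of `K`-points of a subgroup `i : H ⟶ G` (see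
`Agf.H604.BcSub`).

* `gmPts_le`, `exists_factor`: inclusion of subgroups;
* `isNormalHom_iff`, `isSolvableGrp_iff`, `isTorus_iff`, `isCl_gmPts`, `isConn_gmPts`,
  `isCCS_gmPts`;
* `gal_mem`: the points of a subgroup are stable under automorphisms of `K / k`;
* `exists_sub`: over a perfect field a stable closed subgroup comes from a smooth closed subgroup
  scheme.
-/

set_option autoImplicit false

universe u

open CategoryTheory MonoidalCategory CartesianMonoidalCategory MonObj GrpObj AlgebraicGeometry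
open Groth.Agent.Books.AffBridge Groth.Agent.Books.AffBridge2
open TensorProduct WithConv
open Groth.Agent.Sga3B Groth.Agent.Sga3B.RG Groth.Agent.Sga3B.RG.BrPts
open Groth.Agent.Sga3B.RootBridge989 Groth.Agent.Sga3B.RG.BcPt
open Groth.Agent.Sga3B.Parab.BorelPts172
open Groth.Agent.Agf.H604.SemiDesc Groth.Agent.Agf.H604.BcSub

namespace K494.BcDict

section Basic

variable {k K : Type u} [Field k] [Field K] [Algebra k K] {A : Type u} [CommRing A]
  [HopfAlgebra k A] {G H H' : Over (Spec (CommRingCat.of k))} [GrpObj G] [GrpObj H] [GrpObj H']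
  (e : G ≅ SpecOver k A) [IsMonHom e.hom]

theorem gmPts_le (i : H ⟶ G) [IsMonHom i] (i' : H' ⟶ G) [IsMonHom i'] (f : H ⟶ H')
    (hf : f ≫ i' = i) : gmPts K e i ≤ gmPts K e i' := by
  refine ptsSub_le_of_comp (A := K ⊗[k] A) (gm K e i) (gm K e i') ((Over.pullback (sm k K)).map f) ?_
  rw [gm, gm, ← Category.assoc, ← Functor.map_comp, hf]

theorem smooth_bc (X : Over (Spec (CommRingCat.of k))) [Smooth X.hom] :
    Smooth (Red.bc (sm k K) X).hom :=
  inferInstanceAs (Smooth (Limits.pullback.snd X.hom (sm k K)))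

variable [Algebra.FiniteType k A]

/-- Inclusion of subgroups can be checked on points. -/
theorem exists_factor [IsAlgClosed K] (i : H ⟶ G) [IsMonHom i] (i' : H' ⟶ G) [IsMonHom i']
    [Smooth H.hom] (hi' : IsClosedImmersion i'.left) (h : gmPts K e i ≤ gmPts K e i') :
    ∃ f : H ⟶ H', f ≫ i' = i := by
  have h1 := isClosedImmersion_gm (K := K) e i' hi'
  have h2 : Smooth (Red.bc (sm k K) H).hom := smooth_bc H
  obtain ⟨f, hf⟩ := exists_factor_of_le (A := K ⊗[k] A) (gm K e i) (gm K e i') h
  have hm : Mono i' := Groth.Agent.Books.AlgPtsGrp.mono_of_isClosedImmersion i'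
  refine Par.DynDesc383.exists_factor_of_bc (sm k K) i i' ⟨f, ?_⟩
  rw [← cancel_mono (eK K e).hom, Category.assoc]
  exact hf

/-- **Normality on points.** -/
theorem isNormalHom_iff [IsAlgClosed K] [Smooth G.hom] (i : H ⟶ G) [IsMonHom i] [Smooth H.hom]
    (hi : IsClosedImmersion i.left) : AlgGrp.IsNormalHom i ↔ (gmPts K e i).Normal := by
  constructor
  · intro h
    exact normal_ptsSub (A := K ⊗[k] A) (gm K e i)
      (NormBc.isNormalHom_comp_iso _ _ (NormBc.isNormalHom_bc (sm k K) i h))
  · intro h X g n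
    have h1 := isClosedImmersion_gm (K := K) e i hi
    have h2 : Smooth (Red.bc (sm k K) H).hom := smooth_bc H
    have h3 : Smooth (Red.bc (sm k K) G).hom := smooth_bc G
    have h4 : Smooth (SpecOver K (K ⊗[k] A)).hom := by
      rw [hom_eq_of_iso (eK K e).symm]
      have : IsIso (eK K e).symm.hom.left :=
        inferInstanceAs (IsIso ((Over.forget _).map (eK K e).symm.hom))
      infer_instance
    have h5 : _root_.IsReduced (K ⊗[k] A) := (BrPts.smooth_iff (K ⊗[k] A)).1 h4
    have h6 := isNormalHom_of_normal (A := K ⊗[k] A) (gm K e i) h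
    have h7 : AlgGrp.IsNormalHom ((Over.pullback (sm k K)).map i) := by
      have h8 := NormBc.isNormalHom_comp_iso (gm K e i) (eK K e).inv h6
      rwa [gm, Category.assoc, Iso.hom_inv_id, Category.comp_id] at h8
    obtain ⟨n', hn'⟩ := h7 _ ((Over.pullback (sm k K)).map g) ((Over.pullback (sm k K)).map n)
    have hm : Mono i := Groth.Agent.Books.AlgPtsGrp.mono_of_isClosedImmersion i
    obtain ⟨x, hx⟩ := Par.DynDesc383.exists_factor_of_bc (sm k K) (g * (n ≫ i) * g⁻¹) i
      ⟨n', by rw [← hn', Functor.map_mul, Functor.map_mul, Functor.map_inv', Functor.map_comp]⟩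
    exact ⟨x, hx.symm⟩

/-- The points of a closed subgroup are closed. -/
theorem isCl_gmPts (i : H ⟶ G) [IsMonHom i] [Smooth H.hom] [IsAlgClosed K]
    (hi : IsClosedImmersion i.left) : IsCl (gmPts K e i : Set (Pt K (K ⊗[k] A))) := by
  have h1 := isClosedImmersion_gm (K := K) e i hi
  have h2 : Smooth (Red.bc (sm k K) H).hom := smooth_bc H
  exact (exists_iso_vanIdeal (A := K ⊗[k] A) (gm K e i)).1

/-- The points of a connected closed subgroup are connected. -/
theorem isConn_gmPts (i : H ⟶ G) [IsMonHom i] [Smooth H.hom] [ConnectedSpace H.left]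
    [IsAlgClosed K] (hi : IsClosedImmersion i.left) :
    IsConn (gmPts K e i : Set (Pt K (K ⊗[k] A))) := by
  have h1 := isClosedImmersion_gm (K := K) e i hi
  have h2 : Smooth (Red.bc (sm k K) H).hom := smooth_bc H
  have h3 : ConnectedSpace (Red.bc (sm k K) H).left :=
    Groth.Agent.Agf.H614.FieldGlue.connectedSpace_bc H (sm k K)
  exact isConn_ptsSub (A := K ⊗[k] A) (gm K e i)

/-- A closed subgroup with connected points is connected. -/
theorem connectedSpace_of_isConn (i : H ⟶ G) [IsMonHom i] [Smooth H.hom]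
    [IsAlgClosed K] (hi : IsClosedImmersion i.left)
    (h : IsConn (gmPts K e i : Set (Pt K (K ⊗[k] A)))) : ConnectedSpace H.left := by
  have h1 := isClosedImmersion_gm (K := K) e i hi
  have h2 : Smooth (Red.bc (sm k K) H).hom := smooth_bc H
  have h3 : ConnectedSpace (Red.bc (sm k K) H).left :=
    Parab.BorelPts172.connectedSpace_of_isConn (A := K ⊗[k] A) (gm K e i) h
  have h4 : Surjective (Limits.pullback.fst H.hom (sm k K)) := inferInstance
  have h5 : ConnectedSpace ↥(Limits.pullback H.hom (sm k K)) := h3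
  exact h4.surj.connectedSpace (Limits.pullback.fst H.hom (sm k K)).continuous

omit [Algebra.FiniteType k A] in
/-- **Solvability on points.** -/
theorem isSolvableGrp_iff (i : H ⟶ G) [IsMonHom i] [Smooth H.hom] [IsAlgClosed K]
    [IsAffine G.left]
    (hi : IsClosedImmersion i.left) : Red.IsSolvableGrp H ↔ Group.IsSolvable (gmPts K e i) := by
  have h1 := isClosedImmersion_gm (K := K) e i hi
  have h2 : Smooth (Red.bc (sm k K) H).hom := smooth_bc H
  rw [gmPts, ← Parab.BorelPts172.isSolvableGrp_iff (A := K ⊗[k] A) (gm K e i)]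
  constructor
  · exact Groth.Agent.AlgGrp.K411.WordDens.isSolvableGrp_bc (sm k K) H
  · intro h
    have h3 : IsSchemeTheoreticallyDominant (sm k K) :=
      IsSchemeTheoreticallyDominant.of_isDominant _
    have h4 : IsAffine H.left := isAffine_of_isAffineHom i.left
    have h5 : IsSeparated H.hom := inferInstance
    have h6 : Flat H.hom := inferInstance
    exact Groth.Agent.AlgGrp.K411.WordDens.isSolvableGrp_of_dominant (f := sm k K) h

/-- **Tori on points.** -/
theorem isTorus_iff (i : H ⟶ G) [IsMonHom i] [Smooth H.hom] [IsAlgClosed K]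
    (hi : IsClosedImmersion i.left) : Red.IsTorus H ↔ IsTorusSub (gmPts K e i) := by
  have h1 := isClosedImmersion_gm (K := K) e i hi
  have h2 : Smooth (Red.bc (sm k K) H).hom := smooth_bc H
  have hm : Mono (gm K e i) := Groth.Agent.Books.AlgPtsGrp.mono_of_isClosedImmersion _
  constructor
  · intro h
    exact BrTorus.isTorusSub_ptsSub (A := K ⊗[k] A) (gm K e i) (TorusBc.isTorus_bc _ h)
  · intro h
    exact AlgBc.isTorus_of_bc (sm k K) (cover_sm k K) (isTorus_of_isTorusSub (A := K ⊗[k] A) (gm K e i) h)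

/-- The points of a smooth connected solvable closed subgroup. -/
theorem isCCS_gmPts (i : H ⟶ G) [IsMonHom i] [Smooth H.hom] [ConnectedSpace H.left]
    [IsAlgClosed K] [IsAffine G.left]
    (hi : IsClosedImmersion i.left) (h : Red.IsSolvableGrp H) : IsCCS (gmPts K e i) where
  isCl := isCl_gmPts e i hi
  isConn := isConn_gmPts e i hi
  isSolvable := (isSolvableGrp_iff e i hi).1 h

/-- **Descent of closed stable subgroups.** -/
theorem exists_sub [IsAlgClosed K] [Algebra.IsAlgebraic k K] [PerfectField k]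
    {X : Subgroup (Pt K (K ⊗[k] A))} (hX : IsCl (X : Set (Pt K (K ⊗[k] A))))
    (hst : ∀ (σ : K ≃ₐ[k] K), ∀ g ∈ X, Groth.Agent.Agf.H612.GalPts.gal σ g ∈ X) :
    ∃ (R : Over (Spec (CommRingCat.of k))) (_ : GrpObj R) (r : R ⟶ G) (_ : IsMonHom r),
      IsClosedImmersion r.left ∧ Smooth R.hom ∧ gmPts K e r = X := by
  have hI : IsDef (vanIdeal (X : Set (Pt K (K ⊗[k] A)))) := by
    refine isDef_of_stable Set.univ (fun c hc => ?_) _ (fun σ _ x hx => ?_)
    · exact Groth.Agent.Agf.H612.GalSub.mem_range_of_fixed k K c fun σ => hc σ trivial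
    · exact Groth.Agent.Agf.H612.GalPts.act_mem_vanIdeal hst σ hx
  have h1 := isHopfIdeal_contr hI
  exact ⟨_, inferInstance, subG e (vanIdeal (X : Set (Pt K (K ⊗[k] A)))), inferInstance,
    isClosedImmersion_subG e _, smooth_of_isDef hI (vanIdeal_isRadical _),
    ptsSub_gm_subG e hX hI⟩

end Basic

section HomExt

variable {k K : Type u} [Field k] [Field K] [Algebra k K]

variable (K) in
/-- Morphisms are determined after base change to `K`. -/
theorem hom_ext_of_bc {X Y : Over (Spec (CommRingCat.of k))} (f g : X ⟶ Y)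
    (h : (Over.pullback (sm k K)).map f = (Over.pullback (sm k K)).map g) : f = g := by
  obtain ⟨x, hx⟩ := Par.DynDesc383.exists_factor_of_bc (sm k K) (𝟙 X) (Limits.equalizer.ι f g) (by
    have h1 := Limits.isLimitForkMapOfIsLimit (Over.pullback (sm k K)) _
      (Limits.equalizerIsEqualizer f g)
    exact ⟨h1.lift (Limits.Fork.ofι (𝟙 _) (by rw [h])), by
      rw [CategoryTheory.Functor.map_id]
      exact h1.fac (Limits.Fork.ofι (𝟙 _) (by rw [h])) Limits.WalkingParallelPair.zero⟩)
  rw [← Category.id_comp f, ← Category.id_comp g, ← hx, Category.assoc, Category.assoc,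
    Limits.equalizer.condition]

variable [IsAlgClosed K] {A : Type u} [CommRing A] [HopfAlgebra k A]
  {G H : Over (Spec (CommRingCat.of k))} [GrpObj G] [GrpObj H]
  (e : G ≅ SpecOver k A) [IsMonHom e.hom]

/-- **Centrality on points.** -/
theorem comm_of_gmPts [IsAffine G.left] [Smooth G.hom] [Smooth H.hom] (i : H ⟶ G) [IsMonHom i]
    (h : ∀ x ∈ gmPts K e i, ∀ y : Pt K (K ⊗[k] A), x * y = y * x)
    (X : Over (Spec (CommRingCat.of k))) (t : X ⟶ H) (g : X ⟶ G) :
    (t ≫ i) * g = g * (t ≫ i) := by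
  have key : (fst H G ≫ i) * snd H G = snd H G * (fst H G ≫ i) := by
    apply hom_ext_of_bc K
    have h1 : Smooth (H ⊗ G).hom := by
      rw [Over.tensorObj_hom]
      infer_instance
    have h2 : Smooth (Red.bc (sm k K) (H ⊗ G)).hom := smooth_bc _
    have h3 : IsReduced (Red.bc (sm k K) (H ⊗ G)).left :=
      Groth.Agent.Books.AlgPtsSmooth.isReduced_of_smooth _
    have h4 : IsSeparated (Red.bc (sm k K) G).hom :=
      inferInstanceAs (IsSeparated (Limits.pullback.snd G.hom (sm k K)))
    apply hom_ext_of_points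
    intro x
    rw [Functor.map_mul, Functor.map_mul, Functor.map_comp, MonObj.comp_mul, MonObj.comp_mul,
      ← cancel_mono (eK K e).hom, MonObj.mul_comp, MonObj.mul_comp]
    have h5 := h ((ptEquiv K (K ⊗[k] A)).symm ((x ≫ (Over.pullback (sm k K)).map (fst H G)) ≫
      gm K e i)) (mem_ptsSub.2 ⟨_, by rw [MulEquiv.apply_symm_apply]⟩)
      ((ptEquiv K (K ⊗[k] A)).symm ((x ≫ (Over.pullback (sm k K)).map (snd H G)) ≫ (eK K e).hom))
    rw [← (ptEquiv K (K ⊗[k] A)).injective.eq_iff, map_mul, map_mul, MulEquiv.apply_symm_apply,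
      MulEquiv.apply_symm_apply] at h5
    simpa only [gm, Category.assoc] using h5
  have h6 := congrArg (fun a => lift t g ≫ a) key
  simpa only [MonObj.comp_mul, lift_fst_assoc, lift_snd] using h6

omit [IsAlgClosed K] in
/-- Conversely. -/
theorem comm_gmPts [IsAffine G.left] (i : H ⟶ G) [IsMonHom i]
    (h : ∀ (X : Over (Spec (CommRingCat.of k))) (t : X ⟶ H) (g : X ⟶ G),
      (t ≫ i) * g = g * (t ≫ i)) :
    ∀ x ∈ gmPts K e i, ∀ y : Pt K (K ⊗[k] A), x * y = y * x := by
  intro x hx y
  obtain ⟨n, hn⟩ := hx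
  have key := h (H ⊗ G) (fst H G) (snd H G)
  have h1 := congrArg (Over.pullback (sm k K)).map key
  rw [Functor.map_mul, Functor.map_mul, Functor.map_comp] at h1
  let z : 𝟙_ (Over (Spec (CommRingCat.of K))) ⟶ (Over.pullback (sm k K)).obj (H ⊗ G) :=
    lift n (ptEquiv K (K ⊗[k] A) y ≫ (eK K e).inv) ≫
      Functor.LaxMonoidal.μ (Over.pullback (sm k K)) H G
  have hz1 : z ≫ (Over.pullback (sm k K)).map (fst H G) = n := by
    simp only [z, Category.assoc, Functor.Monoidal.μ_fst, lift_fst]
  have hz2 : z ≫ (Over.pullback (sm k K)).map (snd H G) =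
      ptEquiv K (K ⊗[k] A) y ≫ (eK K e).inv := by
    simp only [z, Category.assoc, Functor.Monoidal.μ_snd, lift_snd]
  have h2 := congrArg (fun a => (z ≫ a) ≫ (eK K e).hom) h1
  simp only [MonObj.comp_mul, MonObj.mul_comp, hz2] at h2
  rw [← Category.assoc z, hz1, Category.assoc, Category.assoc, Iso.inv_hom_id,
    Category.comp_id] at h2
  apply (ptEquiv K (K ⊗[k] A)).injective
  rw [map_mul, map_mul, ← hn]
  exact h2

end HomExt

section Unip

variable {K : Type u} [Field K] [IsAlgClosed K] {A : Type u} [CommRing A] [HopfAlgebra K A]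
  [Algebra.FiniteType K A]

/-- A smooth connected closed subgroup without subtori consists of unipotent elements. -/
theorem isUnip_of_hasNoSubtorus {U : Over (Spec (CommRingCat.of K))} [GrpObj U]
    (i : U ⟶ SpecOver K A) [IsMonHom i] [IsClosedImmersion i.left] [Smooth U.hom]
    [ConnectedSpace U.left] (hnt : Red.HasNoSubtorus K U) : ∀ g ∈ ptsSub i, IsUnip g := by
  obtain ⟨hclN, hJ, e, he, hei⟩ := exists_iso_vanIdeal i
  have hcn := isConn_ptsSub i
  have hpr : (vanIdeal (ptsSub i : Set (Pt K A))).IsPrime := hcn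
  have hd : IsDomain (A ⧸ vanIdeal (ptsSub i : Set (Pt K A))) :=
    (Ideal.Quotient.isDomain_iff_prime _).2 hpr
  let B := A ⧸ vanIdeal (ptsSub i : Set (Pt K A))
  let φ : A →ₐc[K] B := Bialgebra.Quotient.mkBialgHom (R := K) (vanIdeal (ptsSub i : Set (Pt K A)))
  have hrange : ptsSub i = (Pt.map φ).range := ptsSub_eq_range i φ e hei
  have hinv : IsMonHom e.inv := inferInstance
  have hntB : Red.HasNoSubtorus K (SpecOver K B) := BrRed2.hasNoSubtorus_of_mono e.inv hnt
  have hB : ∀ (c : B →ₐc[K] LaurentPolynomial K) (t : Kˣ), cochPt c t = 1 := by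
    intro c t
    have h3 := BrRed2.eq_bot_of_isTorusSub (𝟙 (SpecOver K B)) hntB (Groth.Agent.Sga3B.RG.BrImg.isTorusSub_cochPt c)
      (fun g _ => ⟨ptEquiv K B g, Category.comp_id _⟩)
    have h4 : cochPt c t ∈ (cochPt c).range := ⟨t, rfl⟩
    rw [h3, Subgroup.mem_bot] at h4
    exact h4
  intro g hg
  rw [hrange] at hg
  obtain ⟨x, rfl⟩ := hg
  exact BrRed.isUnip_map φ (CentralPt.isUnip_of_forall_coch hB x)

end Unip

end K494.BcDict
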