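import Groth.Agent.AGF.K494.BcDict
import Groth.Agent.Agf.H608.ImgGlue
import Groth.Agent.AlgGrp.K395.Quo
import Groth.Agent.Sga3C.FlatImage

/-!
# Homomorphisms of affine groups over a field on geometric points

`e : G ≅ Spec A`, `e' : G' ≅ Spec C` affine groups of finite type over `k`, `K` an algebraically
closed extension, `q : G ⟶ G'` a homomorphism given by `φ : C → A`.

* `gmPts_comp`: the points of the image of a subgroup;
* `surjective_map`: surjectivity on points;
* `ker_eq`: the kernel on points;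
* `flat_of_surjective`, `isAffine_of_surjective`: a surjective homomorphism from an affine group
  onto a smooth group is flat, and its target is affine.
-/

set_option autoImplicit false

universe u

open CategoryTheory MonoidalCategory CartesianMonoidalCategory MonObj GrpObj AlgebraicGeometry
open Groth.Agent Groth.Agent.Books.AffBridge Groth.Agent.Books.AffBridge2
open TensorProduct WithConv
open Groth.Agent.Sga3B Groth.Agent.Sga3B.RG Groth.Agent.Sga3B.RG.BrPts
open Groth.Agent.Sga3B.RootBridge989 Groth.Agent.Sga3B.RG.BcPt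
open Groth.Agent.Agf.H604.BcSub
open K494.BcDict

namespace K494.HomDict

/-- Base change of kernels. -/
theorem isKernel_map {S S' : Scheme.{u}} (g : S' ⟶ S) {N G Q : Over S} [GrpObj Q] {i : N ⟶ G}
    {q : G ⟶ Q} (h : AlgGrp.IsKernel i q) :
    AlgGrp.IsKernel ((Over.pullback g).map i)
      ((Over.pullback g).map q : Red.bc g G ⟶ Red.bc g Q) := by
  refine IsPullback.of_iso (h.map (Over.pullback g)) (Iso.refl _) (Iso.refl _)
    (Functor.Monoidal.εIso (Over.pullback g)).symm (Iso.refl _) ?_ ?_ ?_ ?_
  · simp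
  · exact toUnit_unique _ _
  · simp
  · rw [Iso.symm_hom, Iso.refl_hom, Category.comp_id, Iso.eq_inv_comp]
    rfl

section Dict

variable {k K : Type u} [Field k] [Field K] [Algebra k K]
  {A : Type u} [CommRing A] [HopfAlgebra k A] {C : Type u} [CommRing C] [HopfAlgebra k C]
  {G G' H : Over (Spec (CommRingCat.of k))} [GrpObj G] [GrpObj G'] [GrpObj H]
  (e : G ≅ SpecOver k A) [IsMonHom e.hom] (e' : G' ≅ SpecOver k C) [IsMonHom e'.hom]
  {q : G ⟶ G'} {φ : C →ₐc[k] A}

/-- Every homomorphism of affine groups comes from a homomorphism of Hopf algebras. -/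
theorem exists_hom (q : G ⟶ G') [IsMonHom q] :
    ∃ φ : C →ₐc[k] A, q ≫ e'.hom = e.hom ≫ specMap k (φ : C →ₐ[k] A) := by
  obtain ⟨φ, hφ⟩ := exists_bialgHom_of_isMonHom k (e.inv ≫ q ≫ e'.hom)
  refine ⟨φ, ?_⟩
  rw [hφ, Iso.hom_inv_id_assoc]

omit [GrpObj G] [GrpObj G'] [IsMonHom e.hom] [IsMonHom e'.hom] in
variable (K) in
theorem eK_comm (hq : q ≫ e'.hom = e.hom ≫ specMap k (φ : C →ₐ[k] A)) :
    (Over.pullback (sm k K)).map q ≫ (eK K e').hom =
      (eK K e).hom ≫ specMap K (Sga3A.BCIso.mapBialg K φ : K ⊗[k] C →ₐ[K] K ⊗[k] A) := by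
  change _ ≫ (Over.pullback (sm k K)).map e'.hom ≫ (bcIso K C).hom =
    ((Over.pullback (sm k K)).map e.hom ≫ (bcIso K A).hom) ≫ _
  rw [Category.assoc, ← bcIso_naturality, ← Category.assoc, ← Category.assoc, ← Functor.map_comp,
    ← Functor.map_comp, hq]

/-- **The points of the image of a subgroup.** -/
theorem gmPts_comp [IsMonHom q] (hq : q ≫ e'.hom = e.hom ≫ specMap k (φ : C →ₐ[k] A)) (i : H ⟶ G)
    [IsMonHom i] :
    gmPts K e' (i ≫ q) = (gmPts K e i).map (Pt.map (Sga3A.BCIso.mapBialg K φ)) := by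
  have h1 : gm K e' (i ≫ q) = gm K e i ≫
      specMap K (Sga3A.BCIso.mapBialg K φ : K ⊗[k] C →ₐ[K] K ⊗[k] A) := by
    rw [gm, Functor.map_comp, Category.assoc, eK_comm K e e' hq, gm, Category.assoc]
  ext x
  rw [gmPts, mem_ptsSub, Subgroup.mem_map]
  constructor
  · rintro ⟨n, hn⟩
    refine ⟨(ptEquiv K (K ⊗[k] A)).symm (n ≫ gm K e i), ?_, ?_⟩
    · rw [gmPts, mem_ptsSub]
      exact ⟨n, by rw [MulEquiv.apply_symm_apply]⟩
    · apply (ptEquiv K (K ⊗[k] C)).injective
      rw [ptEquiv_map, MulEquiv.apply_symm_apply, Category.assoc, ← h1, hn]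
  · rintro ⟨y, hy, rfl⟩
    rw [gmPts, mem_ptsSub] at hy
    obtain ⟨n, hn⟩ := hy
    exact ⟨n, by rw [ptEquiv_map, ← hn, h1, Category.assoc]⟩

omit [GrpObj G] [GrpObj G'] [IsMonHom e.hom] [IsMonHom e'.hom] in
variable (K) in
/-- **Surjectivity on points.** -/
theorem surjective_map [IsAlgClosed K] [Algebra.FiniteType k A] [Algebra.FiniteType k C]
    (hq : q ≫ e'.hom = e.hom ≫ specMap k (φ : C →ₐ[k] A)) [Surjective q.left] :
    Function.Surjective (Pt.map (Sga3A.BCIso.mapBialg K φ)) := by
  apply Groth.Agent.Agf.H608.ImgGlue.surjective_pt_map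
  have h1 : specMap K (Sga3A.BCIso.mapBialg K φ : K ⊗[k] C →ₐ[K] K ⊗[k] A) =
      (eK K e).inv ≫ (Over.pullback (sm k K)).map q ≫ (eK K e').hom := by
    rw [eK_comm K e e' hq, Iso.inv_hom_id_assoc]
  have h2 : Surjective ((Over.pullback (sm k K)).map q).left :=
    MorphismProperty.overPullbackMap (P := @Surjective) _ q inferInstance
  have h3 : IsIso (eK K e).inv.left :=
    inferInstanceAs (IsIso ((Over.forget _).map (eK K e).inv))
  have h4 : IsIso (eK K e').hom.left :=
    inferInstanceAs (IsIso ((Over.forget _).map (eK K e').hom))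
  rw [h1, Over.comp_left, Over.comp_left]
  infer_instance

/-- **The kernel on points.** -/
theorem ker_eq (hq : q ≫ e'.hom = e.hom ≫ specMap k (φ : C →ₐ[k] A)) (i : H ⟶ G)
    [IsMonHom i] (hi : AlgGrp.IsKernel i q) :
    (Pt.map (Sga3A.BCIso.mapBialg K φ)).ker = gmPts K e i := by
  have h1 : AlgGrp.IsKernel (Q := Red.bc (sm k K) G') ((Over.pullback (sm k K)).map i)
    ((Over.pullback (sm k K)).map q) := isKernel_map (sm k K) hi
  have hmon : IsMonHom (eK K e').inv := inferInstance
  ext x
  rw [MonoidHom.mem_ker, gmPts, mem_ptsSub]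
  have h2 : Pt.map (Sga3A.BCIso.mapBialg K φ) x = 1 ↔
      (ptEquiv K (K ⊗[k] A) x ≫ (eK K e).inv) ≫ (Over.pullback (sm k K)).map q = 1 := by
    rw [← (ptEquiv K (K ⊗[k] C)).injective.eq_iff, map_one, ptEquiv_map]
    constructor
    · intro h
      rw [← cancel_mono (eK K e').hom, Category.assoc, Category.assoc, eK_comm K e e' hq,
        Iso.inv_hom_id_assoc, h, MonObj.one_comp]
    · intro h
      rw [← cancel_mono (eK K e').hom, Category.assoc, Category.assoc, eK_comm K e e' hq,
        Iso.inv_hom_id_assoc, MonObj.one_comp] at h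
      exact h
  rw [h2]
  constructor
  · intro h
    obtain ⟨n, hn⟩ := K395.Pts.exists_of_comp_eq_one h1 _ h
    refine ⟨n, ?_⟩
    rw [gm, ← Category.assoc, hn, Category.assoc, Iso.inv_hom_id, Category.comp_id]
  · rintro ⟨n, hn⟩
    rw [← hn, gm, Category.assoc, Category.assoc, Category.assoc, Iso.hom_inv_id_assoc,
      ← Category.assoc]
    exact K395.Pts.comp_eq_one h1 n

end Dict

section Quot

variable {k : Type u} [Field k] {G G' : Over (Spec (CommRingCat.of k))} [GrpObj G] [GrpObj G']

/-- A surjective homomorphism from an affine group of finite type onto a smooth group is flat. -/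
theorem flat_of_surjective (q : G ⟶ G') [IsMonHom q] [IsAffine G.left]
    [LocallyOfFiniteType G.hom] [Smooth G'.hom] [Surjective q.left] : Flat q.left := by
  have h1 : IsReduced G'.left := Books.AlgPtsSmooth.isReduced_of_smooth G'
  have h2 : IsLocallyNoetherian G'.left :=
    LocallyOfFiniteType.isLocallyNoetherian G'.hom
  have h3 : IsSeparated G'.hom := Books.AntiAffine.isSeparated_hom G'
  have h4 : QuasiCompact (q.left ≫ G'.hom) := by
    rw [Over.w]
    infer_instance
  have h5 : QuasiCompact q.left := QuasiCompact.of_comp q.left G'.hom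
  have h6 : Flat G.hom := inferInstance
  have h7 : IsSchemeTheoreticallyDominant q.left := .of_isDominant _
  have h8 : ∀ (X : Scheme.{u}) (g : X ⟶ Spec (CommRingCat.of k)), Flat g := fun X g =>
    inferInstance
  have h9 : Subsingleton ↥(Spec (CommRingCat.of k)) :=
    inferInstanceAs (Subsingleton (PrimeSpectrum k))
  exact Sga3C.FlatImage.flat_of_flat_ker q (h8 _ _) q (𝟙 G') (Category.comp_id q)

/-- The target of a surjective homomorphism from an affine group of finite type onto a smooth group
is affine. -/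
theorem isAffine_of_surjective (q : G ⟶ G') [IsMonHom q] [IsAffine G.left]
    [LocallyOfFiniteType G.hom] [Smooth G'.hom] [Surjective q.left] : IsAffine G'.left := by
  have h1 := flat_of_surjective q
  exact K395.Quo.isAffine_of_quotient q (K395.CovKit.cov_of q) inferInstance

/-- The target of a surjective morphism from a connected group is connected. -/
theorem connectedSpace_of_surjective {X Y : Over (Spec (CommRingCat.of k))} (q : X ⟶ Y)
    [ConnectedSpace X.left] [Surjective q.left] : ConnectedSpace Y.left :=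
  q.left.surjective.connectedSpace q.left.continuous

end Quot

end K494.HomDict
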