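import Groth.Agent.AGF.K494.RadSch
import Groth.Agent.AGF.K493.NormRed
import Groth.Agent.RedSub.H653.SolvRed
import Groth.Agent.SGA3.K207.AffTarget
import Groth.Agent.Sga3B.RG.Rigid

/-!
# Solvable normal subgroups of reductive groups over a field

* `isTorus_of_solvable_normal`: a smooth connected solvable normal closed subgroup scheme of a
  reductive group over a field is a torus;
* `central_of_normal_torus`: a normal torus in a smooth connected affine group is central;
* `isReductive_of_pts`, `isSemisimple_of_pts`: reductivity and semisimplicity on points.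
-/

set_option autoImplicit false

universe u

open CategoryTheory MonoidalCategory CartesianMonoidalCategory MonObj GrpObj AlgebraicGeometry
open Groth.Agent Groth.Agent.Books.AffBridge Groth.Agent.Books.AffBridge2
open TensorProduct WithConv
open Groth.Agent.Sga3B Groth.Agent.Sga3B.RG Groth.Agent.Sga3B.RG.BrPts
open Groth.Agent.Sga3B.RootBridge989 Groth.Agent.Sga3B.RG.BcPt
open Groth.Agent.Sga3B.Parab.BorelPts172
open Groth.Agent.Agf.H604.BcSub Groth.Agent.Agf.H612.GalMain
open K494.BcDict K494.RadPt K494.RadSch

namespace K494.RadRed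

section Field

variable {k : Type u} [Field k]

variable (k) in
/-- A smooth affine group over a field is the spectrum of a finitely generated Hopf algebra. -/
theorem exists_hopf_ft (G : Over (Spec (CommRingCat.of k))) [GrpObj G] [IsAffine G.left]
    [Smooth G.hom] : ∃ (A : Type u) (_ : CommRing A) (_ : HopfAlgebra k A) (e : G ≅ SpecOver k A),
      IsMonHom e.hom ∧ Algebra.FiniteType k A := by
  obtain ⟨A, _, _, e, he⟩ := exists_hopf k G
  have hsm : Smooth (SpecOver k A).hom := by
    rw [hom_eq_of_iso e.symm]
    infer_instance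
  exact ⟨A, _, _, e, he, (locallyOfFiniteType_specOver_iff k A).1 inferInstance⟩

/-- A reductive group over a field is affine. -/
theorem isAffine_of_isReductive {G : Over (Spec (CommRingCat.of k))} [GrpObj G]
    (hG : Red.IsReductive G) : IsAffine G.left := by
  have := hG.1
  exact isAffine_of_isAffineHom G.hom

/-- A reductive group over a field is connected. -/
theorem connectedSpace_of_isReductive {G : Over (Spec (CommRingCat.of k))} [GrpObj G]
    (hG : Red.IsReductive G) : ConnectedSpace G.left := by
  have h1 : ConnectedSpace ↥(Limits.pullback G.hom (Red.geomPt (IsLocalRing.closedPoint k))) :=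
    (hG.2.2 (IsLocalRing.closedPoint k)).2.2.1
  have h4 : Surjective (Red.geomPt (IsLocalRing.closedPoint k : Spec (CommRingCat.of k))) :=
    Groth.Agent.Agf.H614.FieldGlue.surjective_geomPt _
  have h5 : Surjective (Limits.pullback.fst G.hom (Red.geomPt (IsLocalRing.closedPoint k))) :=
    inferInstance
  exact h5.surj.connectedSpace (Limits.pullback.fst G.hom _).continuous

/-- A torus over a field is connected. -/
theorem connectedSpace_of_isTorus {T : Over (Spec (CommRingCat.of k))} [GrpObj T]
    (hT : Red.IsTorus T) : ConnectedSpace T.left := by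
  have h1 : Red.IsTorus (Red.bc (sm k (AlgebraicClosure k)) T) := TorusBc.isTorus_bc _ hT
  obtain ⟨n, e, he⟩ := BrTorus.isTorus_iff.1 h1
  have h2 : ConnectedSpace (SpecOver (AlgebraicClosure k) (BrTorus.KZ (AlgebraicClosure k) n)).left :=
    ((BrPts.isDomain_iff (K := AlgebraicClosure k) _).2 inferInstance).2
  have h3 : ConnectedSpace ↥(Limits.pullback T.hom (sm k (AlgebraicClosure k))) :=
    (Groth.Agent.Books.AlgPtsIrred.homeo e.symm).surjective.connectedSpace
      (Groth.Agent.Books.AlgPtsIrred.homeo e.symm).continuous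
  have h5 : Surjective (Limits.pullback.fst T.hom (sm k (AlgebraicClosure k))) :=
    inferInstance
  exact h5.surj.connectedSpace (Limits.pullback.fst T.hom _).continuous

/-- A torus over a field is quasi-compact. -/
theorem quasiCompact_of_isTorus {T : Over (Spec (CommRingCat.of k))} [GrpObj T]
    (hT : Red.IsTorus T) : QuasiCompact T.hom := by
  have h1 : IsAffineHom T.hom := TorusAlgClosed.isAffineHom_of_isTorus hT
  infer_instance

variable {G R : Over (Spec (CommRingCat.of k))} [GrpObj G] [GrpObj R]

/-- **Solvable normal subgroups of reductive groups are tori.** -/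
theorem isTorus_of_solvable_normal (hG : Red.IsReductive G) (r : R ⟶ G) [IsMonHom r]
    (hr : IsClosedImmersion r.left) [Smooth R.hom] [ConnectedSpace R.left]
    (hsolv : Red.IsSolvableGrp R) (hnorm : AlgGrp.IsNormalHom r) : Red.IsTorus R := by
  have hR : Red.IsReductive R := K493.NormRed.isReductive_of_normal hG r hnorm
  have h1 := hR.2.2 (IsLocalRing.closedPoint k)
  have h2 := Groth.Agent.RedSub.H653.SolvRed.isTorus_of_isSolvableGrp _ h1
    (Groth.Agent.AlgGrp.K411.WordDens.isSolvableGrp_bc _ R hsolv)
  have h3 := cover_sm k (Om k (IsLocalRing.closedPoint k))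
  rw [sm, spec_map_algebraMap] at h3
  have h4 : Surjective (Red.geomPt (IsLocalRing.closedPoint k : Spec (CommRingCat.of k))) :=
    Groth.Agent.Agf.H614.FieldGlue.surjective_geomPt _
  have h5 : Flat (Red.geomPt (IsLocalRing.closedPoint k : Spec (CommRingCat.of k))) :=
    Groth.Agent.Agf.H614.FieldGlue.flat_geomPt _
  exact AlgBc.isTorus_of_bc _ h3 h2

/-- **Normal tori are central.** -/
theorem central_of_normal_torus [IsAffine G.left] [Smooth G.hom] [ConnectedSpace G.left]
    (r : R ⟶ G) [IsMonHom r] (hr : IsClosedImmersion r.left) (hT : Red.IsTorus R)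
    [Smooth R.hom]
    (hnorm : AlgGrp.IsNormalHom r) (X : Over (Spec (CommRingCat.of k))) (t : X ⟶ R) (g : X ⟶ G) :
    (t ≫ r) * g = g * (t ≫ r) := by
  obtain ⟨A, _, _, e, he, hft⟩ := exists_hopf_ft k G
  refine comm_of_gmPts (K := AlgebraicClosure k) e r (fun x hx y => ?_) X t g
  have h1 := (BcDict.isTorus_iff (K := AlgebraicClosure k) e r hr).1 hT
  have h2 := (BcDict.isNormalHom_iff (K := AlgebraicClosure k) e r hr).1 hnorm
  have hdom : IsDomain (AlgebraicClosure k ⊗[k] A) := RadSch.isDomain_tensor e
  have h3 := Rigid.le_center_of_normal h1 h2 isConn_univ hx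
  rw [Subgroup.mem_center_iff] at h3
  exact (h3 y).symm

variable {A : Type u} [CommRing A] [HopfAlgebra k A] [Algebra.FiniteType k A]
  (e : G ≅ SpecOver k A) [IsMonHom e.hom] [IsAffine G.left] [Smooth G.hom] [ConnectedSpace G.left]

include e in
/-- **Reductivity from points.** -/
theorem isReductive_of_pts (h : ∀ s : Spec (CommRingCat.of k), IsRedPt (Om k s) (Om k s ⊗[k] A)) :
    Red.IsReductive G := by
  refine ⟨inferInstance, inferInstance, fun s => ?_⟩
  have h2 : Red.IsReductiveOver (Om k s) (SpecOver (Om k s) (Om k s ⊗[k] A)) :=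
    BrRed2.isReductiveOver_iff.2 ⟨RadSch.isDomain_tensor e, h s⟩
  have hm : IsMonHom (eK (Om k s) e).symm.hom := inferInstanceAs (IsMonHom (eK (Om k s) e).inv)
  have h3 := BrRed2.isReductiveOver_of_iso (eK (Om k s) e).symm h2
  rw [sm, spec_map_algebraMap] at h3
  exact h3

include e in
/-- **Semisimplicity from points.** -/
theorem isSemisimple_of_pts (h : ∀ s : Spec (CommRingCat.of k), IsRedPt (Om k s) (Om k s ⊗[k] A) ∧
      ∀ T : Subgroup (Pt (Om k s) (Om k s ⊗[k] A)), T.Normal → IsTorusSub T → T = ⊥) :
    Red.IsSemisimple G := by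
  refine ⟨inferInstance, inferInstance, fun s => ?_⟩
  have h2 : Red.IsSemisimpleOver (Om k s) (SpecOver (Om k s) (Om k s ⊗[k] A)) :=
    BrRed2.isSemisimpleOver_iff.2 ⟨RadSch.isDomain_tensor e, h s⟩
  have hm : IsMonHom (eK (Om k s) e).symm.hom := inferInstanceAs (IsMonHom (eK (Om k s) e).inv)
  have h3 := BrRed2.isSemisimpleOver_of_iso (eK (Om k s) e).symm h2
  rw [sm, spec_map_algebraMap] at h3
  exact h3

end Field

section Pts

variable {K : Type u} [Field K] [IsAlgClosed K] {A : Type u} [CommRing A] [HopfAlgebra K A]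
  [Algebra.FiniteType K A]

omit [IsAlgClosed K] [Algebra.FiniteType K A] in
/-- A unipotent element of a torus is trivial. -/
theorem eq_one_of_unip_of_torus {T : Subgroup (Pt K A)} (hT : IsTorusSub T) {g : Pt K A}
    (hg : g ∈ T) (hu : IsUnip g) : g = 1 := by
  obtain ⟨n, π, hπ, rfl⟩ := hT
  obtain ⟨x, rfl⟩ := hg
  rw [BrTorus.eq_one_of_unip π hπ x hu, map_one]

end Pts

end K494.RadRed
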