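import Groth.Agent.Agf.H612.GalRed

/-!
# The radical and the unipotent radical on points, and their stability under automorphisms

`K` algebraically closed, `A` a finitely generated commutative Hopf algebra over `K`.

* `IsRad N`: `N` is the largest closed connected solvable normal subgroup of `Pt K A`;
* `IsURad N`: `N` is the largest closed connected normal subgroup of unipotent elements;
* `exists_isRad`, `exists_isURad`, `IsRad.gal_mem`, `IsURad.gal_mem`;
* `eq_bot_of_isRad_ker`: the quotient by the radical has no closed connected solvable normal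
  subgroups.
-/

set_option autoImplicit false

universe u

open WithConv TensorProduct Coalgebra
open Groth.Agent Groth.Agent.Sga3B.RG Groth.Agent.Books
open Groth.Agent.Sga3B.Parab.BorelPts172 Groth.Agent.Sga3B.Parab.SolvPts172
open Groth.Agent.Agf Groth.Agent.Agf.H612 Groth.Agent.Agf.H612.GalPts

namespace K494.RadPt

section Def

variable {K : Type u} [Field K] {A : Type u} [CommRing A] [HopfAlgebra K A]

/-- `N` is the radical of the group of points. -/
structure IsRad (N : Subgroup (Pt K A)) : Prop where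
  normal : N.Normal
  ccs : IsCCS N
  le : ∀ M : Subgroup (Pt K A), M.Normal → IsCCS M → M ≤ N

/-- `N` is the unipotent radical of the group of points. -/
structure IsURad (N : Subgroup (Pt K A)) : Prop where
  normal : N.Normal
  isCl : IsCl (N : Set (Pt K A))
  isConn : IsConn (N : Set (Pt K A))
  isUnip : ∀ g ∈ N, IsUnip g
  le : ∀ M : Subgroup (Pt K A), M.Normal → IsCl (M : Set (Pt K A)) → IsConn (M : Set (Pt K A)) →
    (∀ g ∈ M, IsUnip g) → M ≤ N

lemma IsRad.unique {N M : Subgroup (Pt K A)} (hN : IsRad N) (hM : IsRad M) : N = M :=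
  le_antisymm (hM.le N hN.normal hN.ccs) (hN.le M hM.normal hM.ccs)

lemma IsURad.unique {N M : Subgroup (Pt K A)} (hN : IsURad N) (hM : IsURad M) : N = M :=
  le_antisymm (hM.le N hN.normal hN.isCl hN.isConn hN.isUnip)
    (hN.le M hM.normal hM.isCl hM.isConn hM.isUnip)

end Def

section Exist

variable {K : Type u} [Field K] [IsAlgClosed K] {A : Type u} [CommRing A] [HopfAlgebra K A]
  [Algebra.FiniteType K A]

variable (K A) in
/-- **Existence of the radical.** -/
theorem exists_isRad [IsReduced A] : ∃ N : Subgroup (Pt K A), IsRad N := by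
  obtain ⟨N, hN, hmax⟩ := H593.UnipRad.exists_maximal_isConn (K := K) (A := A)
    (fun N => N.Normal ∧ IsCCS N) ⟨⊥, inferInstance, isCCS_bot⟩
    (fun N hN => ⟨hN.2.isCl, hN.2.isConn⟩)
  refine ⟨N, hN.1, hN.2, fun M hMn hM => ?_⟩
  have hNn := hN.1
  have h1 : IsCCS (clSub (M ⊔ N)) := hM.sup hN.2 (by
    rw [Subgroup.normalizer_eq_top_iff.2 hNn]
    exact le_top)
  have h2 : (clSub (M ⊔ N)).Normal := BcPt.normal_clSub inferInstance
  rw [← hmax _ ⟨h2, h1⟩ (le_sup_right.trans (le_clSub _))]
  exact le_sup_left.trans (le_clSub _)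

variable (K A) in
/-- **Existence of the unipotent radical.** -/
theorem exists_isURad [IsReduced A] : ∃ N : Subgroup (Pt K A), IsURad N := by
  obtain ⟨N, hN, hmax⟩ := H593.UnipRad.exists_unipRad K A
  refine ⟨N, hN.1, hN.2.1, hN.2.2.1, hN.2.2.2, ?_⟩
  intro M h1 h2 h3 h4
  obtain ⟨L, hL, h5, h6⟩ := exists_sup hN ⟨h1, h2, h3, h4⟩
  rw [← hmax L hL h5]
  exact h6

end Exist

section Gal

variable {k K : Type u} [Field k] [Field K] [Algebra k K]
variable {B : Type u} [CommRing B] [HopfAlgebra k B]

lemma gal_map_coe (σ : K ≃ₐ[k] K) (N : Subgroup (Pt K (K ⊗[k] B))) :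
    ((N.map (gal σ).toMonoidHom : Subgroup (Pt K (K ⊗[k] B))) : Set (Pt K (K ⊗[k] B))) =
      gal σ '' (N : Set (Pt K (K ⊗[k] B))) := rfl

lemma isCCS_gal (σ : K ≃ₐ[k] K) {N : Subgroup (Pt K (K ⊗[k] B))} (hN : IsCCS N) :
    IsCCS (N.map (gal σ).toMonoidHom) where
  isCl := by
    rw [gal_map_coe]
    exact isCl_gal σ hN.isCl
  isConn := by
    rw [gal_map_coe]
    exact isConn_gal σ hN.isConn
  isSolvable := by
    have h1 := hN.isSolvable
    have h2 : Function.Surjective ((gal σ).toMonoidHom.subgroupMap N) :=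
      (gal σ).toMonoidHom.subgroupMap_surjective N
    exact Group.isSolvable_of_surjective h2

/-- The radical is stable under automorphisms of `K / k`. -/
theorem IsRad.gal_mem {N : Subgroup (Pt K (K ⊗[k] B))} (hN : IsRad N) (σ : K ≃ₐ[k] K) :
    ∀ g ∈ N, gal σ g ∈ N := by
  intro g hg
  exact hN.le (N.map (gal σ).toMonoidHom) (hN.normal.map _ (gal σ).surjective)
    (isCCS_gal σ hN.ccs) ⟨g, hg, rfl⟩

/-- The unipotent radical is stable under automorphisms of `K / k`. -/
theorem IsURad.gal_mem {N : Subgroup (Pt K (K ⊗[k] B))} (hN : IsURad N) (σ : K ≃ₐ[k] K) :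
    ∀ g ∈ N, gal σ g ∈ N := by
  intro g hg
  refine hN.le (N.map (gal σ).toMonoidHom) (hN.normal.map _ (gal σ).surjective) ?_ ?_ ?_
    ⟨g, hg, rfl⟩
  · rw [gal_map_coe]
    exact isCl_gal σ hN.isCl
  · rw [gal_map_coe]
    exact isConn_gal σ hN.isConn
  · rintro _ ⟨x, hx, rfl⟩
    exact isUnip_gal σ (hN.isUnip x hx)

end Gal

section Quot

variable {K : Type u} [Field K] [IsAlgClosed K] {A : Type u} [CommRing A] [HopfAlgebra K A]
  [Algebra.FiniteType K A] {C : Type u} [CommRing C] [HopfAlgebra K C]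

/-- The quotient by the radical has no closed connected solvable normal subgroups. -/
theorem eq_bot_of_isRad_ker (φ : C →ₐc[K] A) (hs : Function.Surjective (Pt.map φ))
    (h : IsRad (Pt.map φ).ker) {M : Subgroup (Pt K C)} (hMn : M.Normal) (hM : IsCCS M) :
    M = ⊥ := by
  have hPcl : IsCl ((M.comap (Pt.map φ) : Subgroup (Pt K A)) : Set (Pt K A)) :=
    hM.isCl.preimage_map φ
  have hmap : (M.comap (Pt.map φ)).map (Pt.map φ) = M :=
    Subgroup.map_comap_eq_self_of_surjective hs M
  have hnP : (M.comap (Pt.map φ)).Normal := hMn.comap _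
  have hle : idComp (M.comap (Pt.map φ)) ≤ M.comap (Pt.map φ) := idComp_le hPcl
  have hsol : Group.IsSolvable (M.comap (Pt.map φ)) :=
    H593.UnipRad.isSolvable_comap (Pt.map φ) hM.isSolvable h.ccs.isSolvable
  have h1 : idComp (M.comap (Pt.map φ)) ≤ (Pt.map φ).ker := by
    refine h.le _ (normal_idComp hPcl hnP) ⟨isCl_idComp _, isConn_idComp _, ?_⟩
    exact Group.isSolvable_of_isSolvable_injective (f := Subgroup.inclusion hle)
      (Subgroup.inclusion_injective _)
  have h2 := H593.UnipRad.map_idComp φ hPcl (by rw [hmap]; exact hM.isConn)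
  rw [hmap] at h2
  rw [← h2, eq_bot_iff]
  rintro _ ⟨x, hx, rfl⟩
  exact h1 hx

end Quot

end K494.RadPt
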