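import Groth.Agent.AGF.K494.BcDict
import Groth.Agent.AGF.K494.RadPt
import Groth.Agent.Agf.H612.GalMain
import Groth.Prelude.Def_Par

/-!
# The radical and the unipotent radical of a group over a perfect field, on points

`k` perfect, `K` an algebraically closed algebraic extension, `e : G ≅ Spec A` a smooth connected
affine group over `k`.

* `isRad_gmPts`: the points of the largest smooth connected solvable normal closed subgroup scheme
  are the radical of `G(K)`;
* `isURad_gmPts`: the points of the unipotent radical are the unipotent radical of `G(K)`.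
-/

set_option autoImplicit false

universe u

open CategoryTheory MonoidalCategory CartesianMonoidalCategory MonObj GrpObj AlgebraicGeometry
open Groth.Agent Groth.Agent.Books.AffBridge Groth.Agent.Books.AffBridge2
open TensorProduct WithConv
open Groth.Agent.Sga3B Groth.Agent.Sga3B.RG Groth.Agent.Sga3B.RG.BrPts
open Groth.Agent.Sga3B.RootBridge989 Groth.Agent.Sga3B.RG.BcPt
open Groth.Agent.Sga3B.Parab.BorelPts172
open Groth.Agent.Agf.H604.SemiDesc Groth.Agent.Agf.H604.BcSub
open K494.BcDict K494.RadPt

namespace K494.RadSch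

section Smooth

variable {k K : Type u} [Field k] [Field K] [Algebra k K] [IsAlgClosed K]
  {A : Type u} [CommRing A] [HopfAlgebra k A] [Algebra.FiniteType k A]
  {G : Over (Spec (CommRingCat.of k))} [GrpObj G]

/-- The geometric coordinate ring of a smooth group is reduced. -/
theorem isReduced_tensor (e : G ≅ SpecOver k A) [IsMonHom e.hom] [Smooth G.hom] :
    _root_.IsReduced (K ⊗[k] A) := by
  have h3 : Smooth (Red.bc (sm k K) G).hom := BcDict.smooth_bc G
  have h4 : Smooth (SpecOver K (K ⊗[k] A)).hom := by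
    rw [hom_eq_of_iso (eK K e).symm]
    have : IsIso (eK K e).symm.hom.left :=
      inferInstanceAs (IsIso ((Over.forget _).map (eK K e).symm.hom))
    infer_instance
  exact (BrPts.smooth_iff (K ⊗[k] A)).1 h4

/-- The geometric coordinate ring of a smooth connected group is a domain. -/
theorem isDomain_tensor (e : G ≅ SpecOver k A) [IsMonHom e.hom] [Smooth G.hom]
    [ConnectedSpace G.left] : IsDomain (K ⊗[k] A) := by
  have h3 : Smooth (Red.bc (sm k K) G).hom := BcDict.smooth_bc G
  have h5 : ConnectedSpace (Red.bc (sm k K) G).left :=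
    Groth.Agent.Agf.H614.FieldGlue.connectedSpace_bc G (sm k K)
  refine (BrPts.isDomain_iff (K := K) (K ⊗[k] A)).1 ⟨?_, ?_⟩
  · rw [hom_eq_of_iso (eK K e).symm]
    have : IsIso (eK K e).symm.hom.left :=
      inferInstanceAs (IsIso ((Over.forget _).map (eK K e).symm.hom))
    infer_instance
  · exact (Groth.Agent.Books.AlgPtsIrred.homeo (eK K e)).surjective.connectedSpace (Groth.Agent.Books.AlgPtsIrred.homeo (eK K e)).continuous

end Smooth

section Main

variable {k K : Type u} [Field k] [PerfectField k] [Field K] [Algebra k K] [IsAlgClosed K]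
  [Algebra.IsAlgebraic k K]
  {A : Type u} [CommRing A] [HopfAlgebra k A] [Algebra.FiniteType k A]
  {G R U : Over (Spec (CommRingCat.of k))} [GrpObj G] [GrpObj R] [GrpObj U]
  (e : G ≅ SpecOver k A) [IsMonHom e.hom] [IsAffine G.left] [Smooth G.hom]

variable (K) in
/-- **The points of the radical.** -/
theorem isRad_gmPts (r : R ⟶ G) [IsMonHom r] (hr : IsClosedImmersion r.left) [Smooth R.hom]
    [ConnectedSpace R.left] (hsolv : Red.IsSolvableGrp R) (hnorm : AlgGrp.IsNormalHom r)
    (hmax : ∀ (R' : Over (Spec (CommRingCat.of k))) [GrpObj R'] (r' : R' ⟶ G) [IsMonHom r'],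
      IsClosedImmersion r'.left →
      Smooth R'.hom → ConnectedSpace R'.left → Red.IsSolvableGrp R' → AlgGrp.IsNormalHom r' →
      ∃ f : R' ⟶ R, f ≫ r = r') : IsRad (gmPts K e r) := by
  have hred : _root_.IsReduced (K ⊗[k] A) := isReduced_tensor e
  obtain ⟨N, hN⟩ := exists_isRad K (K ⊗[k] A)
  have hle : gmPts K e r ≤ N :=
    hN.le _ ((isNormalHom_iff e r hr).1 hnorm) (isCCS_gmPts e r hr hsolv)
  obtain ⟨R', _, r', _, hcl, hsm, hpts⟩ := exists_sub e hN.ccs.isCl hN.gal_mem
  have hconn : ConnectedSpace R'.left :=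
    BcDict.connectedSpace_of_isConn e r' hcl (by rw [hpts]; exact hN.ccs.isConn)
  obtain ⟨f, hf⟩ := hmax R' r' hcl hsm hconn
    ((BcDict.isSolvableGrp_iff e r' hcl).2 (by rw [hpts]; exact hN.ccs.isSolvable))
    ((isNormalHom_iff e r' hcl).2 (by rw [hpts]; exact hN.normal))
  have h1 := gmPts_le (K := K) e r' r f hf
  rw [hpts] at h1
  rw [le_antisymm hle h1]
  exact hN

end Main

section Unip

open Groth.Agent.Agf.H612.GalMain

variable {k : Type u} [Field k]
  {A : Type u} [CommRing A] [HopfAlgebra k A] [Algebra.FiniteType k A]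
  {G U : Over (Spec (CommRingCat.of k))} [GrpObj G] [GrpObj U]
  (e : G ≅ SpecOver k A) [IsMonHom e.hom]

lemma bc_eq_geomFibre (s : Spec (CommRingCat.of k)) (X : Over (Spec (CommRingCat.of k))) :
    Red.bc (sm k (Om k s)) X = Red.geomFibre s X := by
  rw [sm, spec_map_algebraMap]

/-- No subtori in the geometric fibre: unipotent points. -/
theorem hasNoSubtorus_iff (s : Spec (CommRingCat.of k)) (u : U ⟶ G) [IsMonHom u]
    (hu : IsClosedImmersion u.left) [Smooth U.hom] [ConnectedSpace U.left] :
    Red.HasNoSubtorus (Om k s) (Red.geomFibre s U) ↔ ∀ g ∈ gmPts (Om k s) e u, IsUnip g := by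
  have h0 : Red.HasNoSubtorus (Om k s) (Red.geomFibre s U) ↔
      Red.HasNoSubtorus (Om k s) (Red.bc (sm k (Om k s)) U) := by
    rw [sm, spec_map_algebraMap]
  rw [h0]
  have h1 := isClosedImmersion_gm (K := Om k s) e u hu
  have h2 : Smooth (Red.bc (sm k (Om k s)) U).hom := BcDict.smooth_bc U
  have h3 : ConnectedSpace (Red.bc (sm k (Om k s)) U).left :=
    Groth.Agent.Agf.H614.FieldGlue.connectedSpace_bc U (sm k (Om k s))
  have hm : Mono (gm (Om k s) e u) := Groth.Agent.Books.AlgPtsGrp.mono_of_isClosedImmersion _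
  constructor
  · exact isUnip_of_hasNoSubtorus (A := Om k s ⊗[k] A) (gm (Om k s) e u)
  · exact BrRed.hasNoSubtorus_of_unip (A := Om k s ⊗[k] A) (gm (Om k s) e u)

variable [IsAffine G.left] [Smooth G.hom] [PerfectField k]

/-- **The points of the unipotent radical.** -/
theorem isURad_gmPts (s : Spec (CommRingCat.of k)) (u : U ⟶ G) [IsMonHom u]
    (hU : Par.IsUnipotentRadical u) :
    IsURad (gmPts (Om k s) e u) := by
  obtain ⟨-, hcl, hn, hsm, hqc, hfib, hmax⟩ := hU
  have hc1 : ConnectedSpace (Red.geomFibre s U).left := (hfib s).1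
  have hconn : ConnectedSpace U.left := by
    have h4 : Surjective (Red.geomPt s) := Groth.Agent.Agf.H614.FieldGlue.surjective_geomPt s
    have h5 : Surjective (Limits.pullback.fst U.hom (Red.geomPt s)) := inferInstance
    have h6 : ConnectedSpace ↥(Limits.pullback U.hom (Red.geomPt s)) := hc1
    exact h5.surj.connectedSpace (Limits.pullback.fst U.hom (Red.geomPt s)).continuous
  have hred : _root_.IsReduced (Om k s ⊗[k] A) := isReduced_tensor e
  obtain ⟨N, hN⟩ := exists_isURad (Om k s) (Om k s ⊗[k] A)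
  have hle : gmPts (Om k s) e u ≤ N :=
    hN.le _ ((isNormalHom_iff e u hcl).1 hn) (isCl_gmPts e u hcl) (isConn_gmPts e u hcl)
      ((hasNoSubtorus_iff e s u hcl).1 (hfib s).2)
  obtain ⟨R', _, r', _, hcl', hsm', hpts⟩ := exists_sub e hN.isCl hN.gal_mem
  have hconn' : ConnectedSpace R'.left :=
    BcDict.connectedSpace_of_isConn e r' hcl' (by rw [hpts]; exact hN.isConn)
  have haff : IsAffine R'.left := isAffine_of_isAffineHom r'.left
  obtain ⟨f, hf⟩ := hmax R' r' hcl' ((isNormalHom_iff e r' hcl').2 (by rw [hpts]; exact hN.normal))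
    hsm' inferInstance (fun s' => by
      have hsub : Subsingleton (Spec (CommRingCat.of k)) :=
        inferInstanceAs (Subsingleton (PrimeSpectrum k))
      obtain rfl : s' = s := hsub.elim _ _
      refine ⟨Groth.Agent.Agf.H614.FieldGlue.connectedSpace_bc R' (Red.geomPt s'), ?_⟩
      exact (hasNoSubtorus_iff e s' r' hcl').2 (by rw [hpts]; exact hN.isUnip))
  have h1 := gmPts_le (K := Om k s) e r' u f hf
  rw [hpts] at h1
  rw [le_antisymm hle h1]
  exact hN

end Unip

end K494.RadSch
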